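import Groth.Prelude.Def_FSch5
import Groth.Agent.S3857
import Mathlib.AlgebraicGeometry.Noetherian

/-!
# The formal system induced on an open of the common space
-/

set_option autoImplicit false

universe u

namespace Groth.Agent.FSchRestrict

open AlgebraicGeometry CategoryTheory Limits

theorem isPullback_resLE {X Y : Scheme.{u}} (f : X ⟶ Y) (U : Y.Opens) (V : X.Opens) (e : V ≤ f ⁻¹ᵁ U)
    (h : f ⁻¹ᵁ U = V) : IsPullback V.ι (f.resLE U V e) f U.ι := by
  subst h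
  rw [show f.resLE U (f ⁻¹ᵁ U) e = f ∣_ U from Scheme.Hom.resLE_eq_morphismRestrict f]
  exact (isPullback_morphismRestrict f U).flip

theorem isLocallyNoetherian_opens {X : Scheme.{u}} [IsLocallyNoetherian X] (U : X.Opens) : IsLocallyNoetherian U :=
  isLocallyNoetherian_of_isOpenImmersion U.ι

variable (𝔛 : FSch.Sys.{u}) (h : 𝔛.IsFormal) (U : (𝔛.X 0).Opens)

theorem isPullback_ι (n : ℕ) :
    IsPullback (𝔛.lvU h n U).ι ((𝔛.restrictOpen h U).ι n) (𝔛.ι n) (𝔛.lvU h (n + 1) U).ι :=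
  isPullback_resLE _ _ _ _ (𝔛.lvU_succ h n U)

theorem isAdicHom_restrictOpenι : FSch.IsAdicHom (𝔛.restrictOpenι h U) := fun n => (isPullback_ι 𝔛 h U n).flip

theorem isFormal_restrictOpen : (𝔛.restrictOpen h U).IsFormal := fun n => by
  haveI := (h n).1
  haveI : Surjective (𝔛.ι n) := ⟨(h n).2⟩
  exact ⟨MorphismProperty.of_isPullback (P := @IsClosedImmersion) (isPullback_ι 𝔛 h U n) inferInstance,
    (MorphismProperty.of_isPullback (P := @Surjective) (isPullback_ι 𝔛 h U n) inferInstance).surj⟩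

theorem isPullback_toX (n : ℕ) :
    IsPullback (𝔛.lvU h 0 U).ι ((𝔛.restrictOpen h U).toX n) (𝔛.toX n) (𝔛.lvU h n U).ι := by
  induction n with
  | zero =>
    exact @IsPullback.of_vert_isIso _ _ _ _ _ _ _ _ _ _ (IsIso.id _) (IsIso.id _)
      ⟨(Category.comp_id _).trans (Category.id_comp _).symm⟩
  | succ n ih => exact ih.paste_vert (isPullback_ι 𝔛 h U n)

theorem isAdic_restrictOpen (ha : 𝔛.IsAdic) : (𝔛.restrictOpen h U).IsAdic := fun n => by
  haveI := (h n).1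
  haveI := 𝔛.toX_isClosedImmersion h (n + 1)
  refine (S3857.ker_eq_comap (isPullback_ι 𝔛 h U n).flip).trans ?_
  rw [ha n, S3857.comap_pow]
  exact congrArg (· ^ (n + 1)) (S3857.ker_eq_comap (isPullback_toX 𝔛 h U (n + 1)).flip).symm

theorem isLocNoethFormal_restrictOpen (hX : 𝔛.IsLocNoethFormal) : (𝔛.restrictOpen h U).IsLocNoethFormal :=
  ⟨isFormal_restrictOpen 𝔛 h U, isAdic_restrictOpen 𝔛 h U hX.2.1, fun n => by
    haveI := hX.2.2 n
    exact isLocallyNoetherian_opens _⟩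

variable {𝔛} {𝔜 : FSch.Sys.{u}} (f : 𝔛 ⟶ 𝔜) (h𝔜 : 𝔜.IsFormal) (V : (𝔜.X 0).Opens)

theorem isPullback_restrictOpen_app (n : ℕ) :
    IsPullback (𝔛.lvU h n ((f : FSch.Hom 𝔛 𝔜).app 0 ⁻¹ᵁ V)).ι
      ((FSch.Hom.restrictOpen f h h𝔜 V : FSch.Hom _ _).app n) ((f : FSch.Hom 𝔛 𝔜).app n) (𝔜.lvU h𝔜 n V).ι :=
  isPullback_resLE _ _ _ _ (FSch.Hom.lvU_preimage f h h𝔜 n V)

theorem isAdicHom_restrictOpen (hf : FSch.IsAdicHom f) : FSch.IsAdicHom (FSch.Hom.restrictOpen f h h𝔜 V) := fun n => by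
  refine IsPullback.of_right ?_ ((FSch.Hom.restrictOpen f h h𝔜 V : FSch.Hom _ _).comm n).symm
    (isPullback_restrictOpen_app h f h𝔜 V (n + 1))
  have h1 := (isPullback_ι 𝔛 h ((f : FSch.Hom 𝔛 𝔜).app 0 ⁻¹ᵁ V) n).w.symm
  have h2 := (isPullback_ι 𝔜 h𝔜 V n).w.symm
  exact IsPullback.of_iso ((isPullback_restrictOpen_app h f h𝔜 V n).paste_horiz (hf n)) (Iso.refl _) (Iso.refl _)
    (Iso.refl _) (Iso.refl _) ((Category.comp_id _).trans (h1.symm.trans (Category.id_comp _).symm))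
    ((Category.comp_id _).trans (Category.id_comp _).symm)
    ((Category.comp_id _).trans (Category.id_comp _).symm)
    ((Category.comp_id _).trans (h2.symm.trans (Category.id_comp _).symm))

end Groth.Agent.FSchRestrict
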